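import Groth.Agent.TorsH1.Class
import Groth.Agent.SiteCohomology.ExtBasic
import Mathlib.CategoryTheory.Abelian.GrothendieckCategory.EnoughInjectives

/-!
# `H¹` and torsors
-/

universe u

open CategoryTheory Limits Opposite

namespace Groth.TorsH1

variable {C : Type u} [SmallCategory C] {J : GrothendieckTopology C}
  {G : Sheaf J AddCommGrpCat.{u}}

variable {S : ShortComplex (Sheaf J AddCommGrpCat.{u})} [Injective S.X₂]
  (hS : S.ShortExact) (T : Tors.Torsor S.X₁)

/-- The sieve where a torsor has a section. -/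
def sectSieve (U : C) : Sieve U where
  arrows V _ := Nonempty (T.P.obj.obj (op V))
  downward_closed := fun {_ _ _} h g => h.map (T.P.obj.map g.op)

omit [Injective S.X₂] in
theorem sectSieve_mem (U : C) : sectSieve T U ∈ J U := by
  obtain ⟨R, hR, h⟩ := T.locally_nonempty U
  exact J.superset_covering (fun V f hf => h f hf) hR

/-- The image in the quotient does not depend on the section. -/
theorem g_toInj (hS : S.ShortExact) {U : Cᵒᵖ} (p p' : T.P.obj.obj U) :
    S.g.hom.app U (toInj T S.f p) = S.g.hom.app U (toInj T S.f p') := by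
  rw [← diff_vadd T p p', toInj_vadd, map_add, (app_exact hS U).2.1, zero_add]

include hS in
/-- If global sections lift, every torsor has a section. -/
theorem hasSection_of_lift
    (hl : ∀ q, IsFam S.X₃ q → ∃ x, IsFam S.X₂ x ∧ ∀ U, S.g.hom.app U (x U) = q U) :
    T.HasSection := by
  classical
  have hnat : ∀ {U V : Cᵒᵖ} (f : U ⟶ V) (p : T.P.obj.obj U),
      S.X₃.obj.map f (S.g.hom.app U (toInj T S.f p)) =
        S.g.hom.app V (toInj T S.f (T.P.obj.map f p)) := fun {U V} f p => by
    rw [← toInj_map]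
    exact (congrArg (fun g : S.X₂.obj.obj U ⟶ S.X₃.obj.obj V => g (toInj T S.f p))
      (S.g.hom.naturality f)).symm
  have hq0 : ∀ U : C, ∃ t : S.X₃.obj.obj (op U), ∀ ⦃V : C⦄ (f : V ⟶ U) (p : T.P.obj.obj (op V)),
      S.X₃.obj.map f.op t = S.g.hom.app (op V) (toInj T S.f p) := by
    intro U
    let y : Presieve.FamilyOfElements (toTypeSheaf S.X₃).obj (sectSieve T U).arrows :=
      fun V f hf => S.g.hom.app (op V) (toInj T S.f (Classical.choice hf))
    have hy : y.Compatible := fun Y₁ Y₂ Z g₁ g₂ f₁ f₂ h₁ h₂ e =>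
      ((hnat g₁.op (Classical.choice h₁)).trans (g_toInj T hS _ _)).trans
        (hnat g₂.op (Classical.choice h₂)).symm
    obtain ⟨t, ht, -⟩ := amalgamate _ (sectSieve_mem T U) y hy
    exact ⟨t, fun V f p => (ht f ⟨p⟩).trans (g_toInj T hS _ _)⟩
  choose q hq using hq0
  have hfam : IsFam S.X₃ fun U => q U.unop := by
    intro U V i
    refine separated (toTypeSheaf S.X₃) (sectSieve_mem T V.unop) fun W h hW => ?_
    change S.X₃.obj.map h.op (S.X₃.obj.map i (q U.unop)) = S.X₃.obj.map h.op (q V.unop)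
    rw [hq V.unop h (Classical.choice hW), ← hq U.unop (h ≫ i.unop) (Classical.choice hW)]
    exact (congrArg (fun g : S.X₃.obj.obj U ⟶ S.X₃.obj.obj (op W) => g (q U.unop))
      (S.X₃.obj.map_comp i h.op)).symm
  obtain ⟨x, hx, hxq⟩ := hl _ hfam
  have huniq : ∀ {U : Cᵒᵖ} (p p' : T.P.obj.obj U), toInj T S.f p = toInj T S.f p' → p = p' := by
    intro U p p' e
    rw [← diff_vadd T p p', toInj_vadd, add_eq_right] at e
    have h0 : diff T p p' = 0 := (app_exact hS U).1 (e.trans (map_zero _).symm)
    rw [← diff_vadd T p p', h0, T.zero_vadd]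
  have hex : ∀ (U : Cᵒᵖ), Nonempty (T.P.obj.obj U) → ∃ p, toInj T S.f p = x U := by
    rintro U ⟨p⟩
    have h1 := hq U.unop (𝟙 _) p
    simp only [op_id, op_unop, CategoryTheory.Functor.map_id] at h1
    obtain ⟨g, hg⟩ := (app_exact hS U).2.2 (x U - toInj T S.f p) (by
      rw [map_sub, hxq U, sub_eq_zero]
      exact h1)
    exact ⟨T.vadd g p, by rw [toInj_vadd, hg, sub_add_cancel]⟩
  have hne : ∀ U : C, Nonempty (T.P.obj.obj (op U)) := by
    intro U
    let y : Presieve.FamilyOfElements T.P.obj (sectSieve T U).arrows :=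
      fun V f hf => (hex (op V) hf).choose
    have hy : y.Compatible := fun Y₁ Y₂ Z g₁ g₂ f₁ f₂ h₁ h₂ e => huniq _ _ (by
      rw [← toInj_map, ← toInj_map, (hex _ h₁).choose_spec, (hex _ h₂).choose_spec, hx g₁.op,
        hx g₂.op])
    obtain ⟨t, -, -⟩ := amalgamate _ (sectSieve_mem T U) y hy
    exact ⟨t⟩
  choose p hp using fun U : Cᵒᵖ => hex U (hne U.unop)
  exact (hasSection_iff T).2 ⟨p, fun U V f => huniq _ _ (by rw [← toInj_map, hp, hp, hx f])⟩

/-- `H¹(G) = 0` iff every torsor has a section. -/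
theorem subsingleton_iff (G : Sheaf J AddCommGrpCat.{u}) :
    Subsingleton (Sheaf.H.{u} G 1) ↔ ∀ T : Tors.Torsor G, T.HasSection := by
  let S := Groth.SiteCohomology.injSES G
  have hS : S.ShortExact := Groth.SiteCohomology.injSES_shortExact G
  have hI : Injective S.X₂ := inferInstanceAs (Injective (Injective.under G))
  constructor
  · intro h T
    exact hasSection_of_lift (S := S) hS T ((exists_lift_iff S.g).1 fun f =>
      haveI : Subsingleton (Abelian.Ext.{u} (Zsh J) S.X₁ 1) := h
      Groth.SiteCohomology.exists_lift_of_subsingleton_ext_one hS (Zsh J) f)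
  · intro h
    have : Subsingleton (Abelian.Ext.{u} (Zsh J) S.X₂ 1) :=
      Abelian.Ext.subsingleton_of_injective _ _ 0
    exact Groth.SiteCohomology.subsingleton_ext_one_left hS (Zsh J)
      ((exists_lift_iff S.g).2 fun q hq => exists_lift_of_hasSection hS hq (h _))

end Groth.TorsH1
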