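import Groth.Agent.TorsH1.Torsor
import Mathlib.Algebra.Category.Grp.Adjunctions
import Mathlib.GroupTheory.FreeAbelianGroup

/-!
# From a torsor to an equivariant map into an injective sheaf
-/

universe u

open CategoryTheory Limits Opposite

namespace Groth.TorsH1

variable {C : Type u} [SmallCategory C] {J : GrothendieckTopology C}
  {G : Sheaf J AddCommGrpCat.{u}} (T : Tors.Torsor G)

/-- The difference of two sections of a torsor. -/
noncomputable def diff {U : Cᵒᵖ} (p p₀ : T.P.obj.obj U) : G.obj.obj U :=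
  (T.free_transitive p₀ p).exists.choose

theorem diff_vadd {U : Cᵒᵖ} (p p₀ : T.P.obj.obj U) : T.vadd (diff T p p₀) p₀ = p :=
  (T.free_transitive p₀ p).exists.choose_spec

theorem diff_eq {U : Cᵒᵖ} {p p₀ : T.P.obj.obj U} {g : G.obj.obj U} (h : T.vadd g p₀ = p) :
    diff T p p₀ = g :=
  (T.free_transitive p₀ p).unique (diff_vadd T p p₀) h

theorem diff_add {U : Cᵒᵖ} (p p₀ p₁ : T.P.obj.obj U) :
    diff T p p₁ = diff T p p₀ + diff T p₀ p₁ :=
  diff_eq T (by rw [T.add_vadd, diff_vadd, diff_vadd])

theorem map_diff {U V : Cᵒᵖ} (f : U ⟶ V) (p p₀ : T.P.obj.obj U) :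
    G.obj.map f (diff T p p₀) = diff T (T.P.obj.map f p) (T.P.obj.map f p₀) :=
  (diff_eq T (by rw [← T.map_vadd, diff_vadd])).symm

/-- The free presheaf on the torsor. -/
noncomputable abbrev freeP : Cᵒᵖ ⥤ AddCommGrpCat.{u} := T.P.obj ⋙ AddCommGrpCat.free.{u}

/-- The degree. -/
noncomputable def deg (U : Cᵒᵖ) : FreeAbelianGroup (T.P.obj.obj U) →+ ℤ :=
  FreeAbelianGroup.lift fun _ => 1

theorem deg_map {U V : Cᵒᵖ} (f : U ⟶ V) (x : FreeAbelianGroup (T.P.obj.obj U)) :
    deg T V (FreeAbelianGroup.map (T.P.obj.map f) x) = deg T U x := by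
  suffices (deg T V).comp (FreeAbelianGroup.map (T.P.obj.map f)) = deg T U from
    DFunLike.congr_fun this x
  ext p
  simp [deg]

/-- The degree zero part of the free presheaf. -/
noncomputable def degZero : Cᵒᵖ ⥤ AddCommGrpCat.{u} where
  obj U := AddCommGrpCat.of (deg T U).ker
  map {U V} f := AddCommGrpCat.ofHom
    (((freeP T).map f).hom.comp (deg T U).ker.subtype |>.codRestrict (deg T V).ker fun x => by
      change deg T V (FreeAbelianGroup.map (T.P.obj.map f) x.1) = 0
      rw [deg_map]
      exact x.2)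
  map_id U := by
    ext x
    exact congrArg (fun g : (freeP T).obj U ⟶ (freeP T).obj U => g x.1) ((freeP T).map_id U)
  map_comp {U V W} f g := by
    ext x
    exact congrArg (fun h : (freeP T).obj U ⟶ (freeP T).obj W => h x.1) ((freeP T).map_comp f g)

/-- The inclusion. -/
noncomputable def degZeroι : degZero T ⟶ freeP T where
  app U := AddCommGrpCat.ofHom (deg T U).ker.subtype

instance : Mono (degZeroι T) :=
  have : ∀ U, Mono ((degZeroι T).app U) := fun _ =>
    (AddCommGrpCat.mono_iff_injective _).2 Subtype.val_injective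
  NatTrans.mono_of_mono_app _

/-- `ψ` relative to a base point. -/
noncomputable def psiAt {U : Cᵒᵖ} (p₀ : T.P.obj.obj U) :
    FreeAbelianGroup (T.P.obj.obj U) →+ G.obj.obj U :=
  FreeAbelianGroup.lift fun p => diff T p p₀

theorem psiAt_sub {U : Cᵒᵖ} (p₀ p₁ : T.P.obj.obj U) (x : FreeAbelianGroup (T.P.obj.obj U)) :
    psiAt T p₁ x = psiAt T p₀ x + deg T U x • diff T p₀ p₁ := by
  suffices psiAt T p₁ = psiAt T p₀ + (zmultiplesHom _ (diff T p₀ p₁)).comp (deg T U) from
    DFunLike.congr_fun this x
  ext p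
  simp only [AddMonoidHom.add_apply, AddMonoidHom.coe_comp, Function.comp_apply, psiAt, deg,
    FreeAbelianGroup.lift_apply_of, zmultiplesHom_apply, one_zsmul]
  exact diff_add T p p₀ p₁

theorem psiAt_map {U V : Cᵒᵖ} (f : U ⟶ V) (p₀ : T.P.obj.obj U)
    (x : FreeAbelianGroup (T.P.obj.obj U)) :
    psiAt T (T.P.obj.map f p₀) (FreeAbelianGroup.map (T.P.obj.map f) x) =
      G.obj.map f (psiAt T p₀ x) := by
  suffices (psiAt T (T.P.obj.map f p₀)).comp (FreeAbelianGroup.map (T.P.obj.map f)) =
      (G.obj.map f).hom.comp (psiAt T p₀) from DFunLike.congr_fun this x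
  ext p
  simp [psiAt, map_diff]

open scoped Classical in
/-- The canonical map from degree zero combinations to `G`. -/
noncomputable def psi : degZero T ⟶ G.obj where
  app U := AddCommGrpCat.ofHom
    (if h : Nonempty (T.P.obj.obj U) then (psiAt T h.some).comp (deg T U).ker.subtype else 0)
  naturality {U V} f := by
    ext (x : (deg T U).ker)
    by_cases hU : Nonempty (T.P.obj.obj U)
    · have hV : Nonempty (T.P.obj.obj V) := ⟨T.P.obj.map f hU.some⟩
      simp only [dif_pos hU, dif_pos hV]
      change psiAt T hV.some (FreeAbelianGroup.map (T.P.obj.map f) x.1) =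
        G.obj.map f (psiAt T hU.some x.1)
      rw [psiAt_sub T (T.P.obj.map f hU.some), deg_map, x.2, zero_smul, add_zero, psiAt_map]
    · have : IsEmpty (T.P.obj.obj U) := not_nonempty_iff.1 hU
      have hx : x = 0 := Subtype.ext (by
        induction x.1 using FreeAbelianGroup.induction_on with
        | zero => rfl
        | of p => exact isEmptyElim p
        | neg p h => exact isEmptyElim p
        | add a b ha hb => rw [ha, hb]; exact add_zero _)
      rw [hx]
      exact (map_zero _).trans (map_zero _).symm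

variable {I : Sheaf J AddCommGrpCat.{u}} [Injective I] (ι : G ⟶ I)

instance injective_obj : Injective I.obj :=
  Injective.injective_of_adjoint (sheafificationAdjunction J AddCommGrpCat.{u}) I

/-- The extension to the free presheaf. -/
noncomputable def ext₀ : freeP T ⟶ I.obj :=
  Injective.factorThru (psi T ≫ ι.hom) (degZeroι T)

/-- The equivariant map to `I`. -/
noncomputable def toInj {U : Cᵒᵖ} (p : T.P.obj.obj U) : I.obj.obj U :=
  (ext₀ T ι).app U (FreeAbelianGroup.of p)

theorem toInj_map {U V : Cᵒᵖ} (f : U ⟶ V) (p : T.P.obj.obj U) :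
    I.obj.map f (toInj T ι p) = toInj T ι (T.P.obj.map f p) := by
  have h := congrArg (fun g : (freeP T).obj U ⟶ I.obj.obj V => g (FreeAbelianGroup.of p))
    ((ext₀ T ι).naturality f)
  refine h.symm.trans ?_
  change (ext₀ T ι).app V (FreeAbelianGroup.map (T.P.obj.map f) (FreeAbelianGroup.of p)) = _
  rw [FreeAbelianGroup.map_of_apply]
  rfl

theorem toInj_vadd {U : Cᵒᵖ} (g : G.obj.obj U) (p : T.P.obj.obj U) :
    toInj T ι (T.vadd g p) = ι.hom.app U g + toInj T ι p := by
  classical
  let k : (deg T U).ker := ⟨FreeAbelianGroup.of (T.vadd g p) - FreeAbelianGroup.of p, by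
    simp [AddMonoidHom.mem_ker, deg]⟩
  have h := congrArg (fun α : degZero T ⟶ I.obj => α.app U k)
    (Injective.comp_factorThru (psi T ≫ ι.hom) (degZeroι T))
  have hU : Nonempty (T.P.obj.obj U) := ⟨p⟩
  have hk : psiAt T hU.some k.1 = g := by
    change psiAt T hU.some (FreeAbelianGroup.of (T.vadd g p) - FreeAbelianGroup.of p) = g
    simp only [map_sub, psiAt, FreeAbelianGroup.lift_apply_of]
    rw [diff_add T (T.vadd g p) p, add_sub_cancel_right, diff_eq T rfl]
  have h' : (ext₀ T ι).app U k.1 = ι.hom.app U g := by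
    refine h.trans ?_
    change ι.hom.app U ((psi T).app U k) = _
    congr 1
    simp only [psi, dif_pos hU]
    exact hk
  change (ext₀ T ι).app U (FreeAbelianGroup.of (T.vadd g p)) = _
  rw [← h']
  change _ = (ext₀ T ι).app U (FreeAbelianGroup.of (T.vadd g p) - FreeAbelianGroup.of p) +
    (ext₀ T ι).app U (FreeAbelianGroup.of p)
  exact ((congrArg (· + _) (map_sub ((ext₀ T ι).app U).hom _ _)).trans (sub_add_cancel _ _)).symm

end Groth.TorsH1
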