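import Groth.Prelude.Def_Tors
import Mathlib.CategoryTheory.Sites.EpiMono
import Mathlib.CategoryTheory.Preadditive.Injective.Basic
import Mathlib.CategoryTheory.Limits.Preserves.Shapes.Terminal
import Mathlib.Algebra.Homology.ShortComplex.Ab

/-!
# Global sections as compatible families, for abelian sheaves on a small site
-/

universe u

open CategoryTheory Limits Opposite

namespace Groth.TorsH1

variable {C : Type u} [SmallCategory C] {J : GrothendieckTopology C}

/-- A compatible family of sections. -/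
def IsFam (F : Sheaf J AddCommGrpCat.{u}) (x : ∀ U, F.obj.obj U) : Prop :=
  ∀ ⦃U V : Cᵒᵖ⦄ (f : U ⟶ V), F.obj.map f (x U) = x V

/-- The constant sheaf `ℤ`. -/
noncomputable abbrev Zsh (J : GrothendieckTopology C) : Sheaf J AddCommGrpCat.{u} :=
  (constantSheaf J AddCommGrpCat.{u}).obj (AddCommGrpCat.of (ULift ℤ))

/-- The family attached to a morphism out of the constant sheaf. -/
noncomputable def famOf {F : Sheaf J AddCommGrpCat.{u}} (f : Zsh J ⟶ F) (U : Cᵒᵖ) : F.obj.obj U :=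
  ((sheafificationAdjunction J AddCommGrpCat.{u}).homEquiv
    ((Functor.const Cᵒᵖ).obj (AddCommGrpCat.of (ULift ℤ))) F f).app U (ULift.up 1)

theorem isFam_famOf {F : Sheaf J AddCommGrpCat.{u}} (f : Zsh J ⟶ F) : IsFam F (famOf f) :=
  fun U V i =>
    (congrArg (fun g : AddCommGrpCat.of (ULift ℤ) ⟶ F.obj.obj V => g (ULift.up 1))
      (((sheafificationAdjunction J AddCommGrpCat.{u}).homEquiv
        ((Functor.const Cᵒᵖ).obj (AddCommGrpCat.of (ULift ℤ))) F f).naturality i)).symm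

theorem famOf_comp {F G : Sheaf J AddCommGrpCat.{u}} (f : Zsh J ⟶ F) (g : F ⟶ G) (U : Cᵒᵖ) :
    famOf (f ≫ g) U = g.hom.app U (famOf f U) := by
  simp only [famOf]
  exact congrArg (fun h : (Functor.const Cᵒᵖ).obj (AddCommGrpCat.of (ULift ℤ)) ⟶ G.obj =>
    h.app U (ULift.up 1))
    ((sheafificationAdjunction J AddCommGrpCat.{u}).homEquiv_naturality_right f g)

theorem famOf_injective {F : Sheaf J AddCommGrpCat.{u}} {f g : Zsh J ⟶ F}
    (h : ∀ U, famOf f U = famOf g U) : f = g := by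
  apply ((sheafificationAdjunction J AddCommGrpCat.{u}).homEquiv
    ((Functor.const Cᵒᵖ).obj (AddCommGrpCat.of (ULift ℤ))) F).injective
  ext U (n : ULift ℤ)
  have hn : n = n.down • (ULift.up 1 : ULift ℤ) := by
    apply ULift.ext; simp
  rw [hn, map_zsmul, map_zsmul]
  exact congrArg (n.down • ·) (h U)

theorem exists_famOf {F : Sheaf J AddCommGrpCat.{u}} {x : ∀ U, F.obj.obj U} (hx : IsFam F x) :
    ∃ f : Zsh J ⟶ F, ∀ U, famOf f U = x U := by
  let α : (Functor.const Cᵒᵖ).obj (AddCommGrpCat.of (ULift.{u} ℤ)) ⟶ F.obj :=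
    { app := fun U => AddCommGrpCat.ofHom
        ((zmultiplesHom _ (x U)).comp (AddEquiv.ulift : ULift.{u} ℤ ≃+ ℤ).toAddMonoidHom)
      naturality := fun U V i => by
        ext (n : ULift ℤ)
        change n.down • x V = F.obj.map i (n.down • x U)
        rw [map_zsmul, hx i] }
  refine ⟨((sheafificationAdjunction J AddCommGrpCat.{u}).homEquiv _ F).symm α, fun U => ?_⟩
  simp only [famOf, Equiv.apply_symm_apply]
  change (1 : ℤ) • x U = x U
  exact one_zsmul (x U)

theorem exists_lift_iff {F G : Sheaf J AddCommGrpCat.{u}} (π : F ⟶ G) :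
    (∀ f : Zsh J ⟶ G, ∃ g, g ≫ π = f) ↔
      ∀ q, IsFam G q → ∃ x, IsFam F x ∧ ∀ U, π.hom.app U (x U) = q U := by
  constructor
  · intro h q hq
    obtain ⟨f, hf⟩ := exists_famOf hq
    obtain ⟨g, rfl⟩ := h f
    exact ⟨famOf g, isFam_famOf g, fun U => by rw [← famOf_comp, hf]⟩
  · intro h f
    obtain ⟨x, hx, hxq⟩ := h _ (isFam_famOf f)
    obtain ⟨g, hg⟩ := exists_famOf hx
    exact ⟨g, famOf_injective fun U => by rw [famOf_comp, hg, hxq]⟩

/-- Sections of the kernel in a short exact sequence of sheaves. -/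
theorem app_exact {S : ShortComplex (Sheaf J AddCommGrpCat.{u})} (hS : S.ShortExact) (U : Cᵒᵖ) :
    Function.Injective (S.f.hom.app U) ∧
      (∀ x, S.g.hom.app U (S.f.hom.app U x) = 0) ∧
      (∀ y, S.g.hom.app U y = 0 → ∃ x, S.f.hom.app U x = y) := by
  let Φ : Sheaf J AddCommGrpCat.{u} ⥤ AddCommGrpCat.{u} :=
    sheafToPresheaf J _ ⋙ (evaluation Cᵒᵖ AddCommGrpCat.{u}).obj U
  have := hS.mono_f
  have : Φ.PreservesZeroMorphisms := ⟨fun _ _ => rfl⟩
  refine ⟨(AddCommGrpCat.mono_iff_injective (Φ.map S.f)).1 inferInstance, fun x => ?_, ?_⟩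
  · exact congrArg (fun g : S.X₁ ⟶ S.X₃ => g.hom.app U x) S.zero
  · exact (ShortComplex.ab_exact_iff _).1
      (hS.exact.map_of_mono_of_preservesKernel Φ hS.mono_f inferInstance)

end Groth.TorsH1
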