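import Groth.Agent.TorsH1.Sections

/-!
# Torsors and lifting of global sections

The torsor of lifts of a global section, and the class of a torsor in an injective embedding.
-/

universe u

open CategoryTheory Limits Opposite

namespace Groth.TorsH1

variable {C : Type u} [SmallCategory C] {J : GrothendieckTopology C}

theorem hasSection_iff {G : Sheaf J AddCommGrpCat.{u}} (T : Tors.Torsor G) :
    T.HasSection ↔ ∃ p : ∀ U, T.P.obj.obj U,
      ∀ ⦃U V : Cᵒᵖ⦄ (f : U ⟶ V), T.P.obj.map f (p U) = p V := by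
  constructor
  · rintro ⟨s⟩
    have ht : ∀ U : Cᵒᵖ, IsTerminal ((⊤_ (Sheaf J (Type u))).obj.obj U) := fun U =>
      IsTerminal.isTerminalObj (sheafToPresheaf J (Type u) ⋙ (evaluation Cᵒᵖ (Type u)).obj U) _
        terminalIsTerminal
    let q : ∀ U : Cᵒᵖ, (⊤_ (Sheaf J (Type u))).obj.obj U := fun U =>
      (ht U).from PUnit.{u + 1} PUnit.unit
    have hq : ∀ (U : Cᵒᵖ) (a : (⊤_ (Sheaf J (Type u))).obj.obj U), a = q U := fun U a =>
      congrArg (fun f : PUnit.{u + 1} ⟶ _ => f PUnit.unit)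
        ((ht U).hom_ext (↾ fun _ : PUnit.{u + 1} => a) ((ht U).from PUnit.{u + 1}))
    refine ⟨fun U => s.hom.app U (q U), fun U V f => ?_⟩
    have h := congrArg (fun g : (⊤_ (Sheaf J (Type u))).obj.obj U ⟶ T.P.obj.obj V => g (q U))
      (s.hom.naturality f)
    simp only [types_comp_apply] at h
    rw [hq V ((⊤_ (Sheaf J (Type u))).obj.map f (q U))] at h
    exact h.symm
  · rintro ⟨p, hp⟩
    exact ⟨⟨{ app := fun U => ↾ fun _ => p U
              naturality := fun U V f => by
                ext x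
                exact (hp f).symm }⟩⟩

theorem amalgamate (F : Sheaf J (Type u)) {X : C} {S : Sieve X} (hS : S ∈ J X)
    (x : Presieve.FamilyOfElements F.obj S.arrows) (hx : x.Compatible) :
    ∃! t, x.IsAmalgamation t :=
  (isSheaf_iff_isSheaf_of_type J _).1 F.property S hS x hx

theorem separated (F : Sheaf J (Type u)) {X : C} {S : Sieve X} (hS : S ∈ J X)
    {a b : F.obj.obj (op X)}
    (h : ∀ ⦃Y : C⦄ (f : Y ⟶ X), S f → F.obj.map f.op a = F.obj.map f.op b) : a = b :=
  (((isSheaf_iff_isSheaf_of_type J _).1 F.property S hS).isSeparatedFor).ext h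

/-- The underlying sheaf of sets. -/
noncomputable abbrev toTypeSheaf (G : Sheaf J AddCommGrpCat.{u}) : Sheaf J (Type u) :=
  (sheafCompose J (forget AddCommGrpCat.{u})).obj G

section Lifts

variable {S : ShortComplex (Sheaf J AddCommGrpCat.{u})} {q : ∀ U, S.X₃.obj.obj U}

/-- The presheaf of lifts of the global section `q`. -/
noncomputable def liftsPresheaf (hq : IsFam S.X₃ q) : Cᵒᵖ ⥤ Type u where
  obj U := { x : S.X₂.obj.obj U // S.g.hom.app U x = q U }
  map {U V} f := ↾ fun x => ⟨S.X₂.obj.map f x.1, by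
    exact (congrArg (fun g : S.X₂.obj.obj U ⟶ S.X₃.obj.obj V => g x.1) (S.g.hom.naturality f)).trans
      ((congrArg (S.X₃.obj.map f) x.2).trans (hq f))⟩
  map_id U := by
    ext x
    exact congrArg (fun g : S.X₂.obj.obj U ⟶ S.X₂.obj.obj U => g x.1) (S.X₂.obj.map_id U)
  map_comp {U V W} f g := by
    ext x
    exact congrArg (fun h : S.X₂.obj.obj U ⟶ S.X₂.obj.obj W => h x.1) (S.X₂.obj.map_comp f g)

theorem isSheaf_lifts (hq : IsFam S.X₃ q) : Presheaf.IsSheaf J (liftsPresheaf hq) := by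
  rw [isSheaf_iff_isSheaf_of_type]
  intro X R hR x hx
  let x' : Presieve.FamilyOfElements (toTypeSheaf S.X₂).obj R.arrows := fun Y f hf => (x f hf).1
  have hx' : x'.Compatible := fun Y₁ Y₂ Z g₁ g₂ f₁ f₂ h₁ h₂ e =>
    congrArg Subtype.val (hx g₁ g₂ h₁ h₂ e)
  obtain ⟨t, ht, hu⟩ := amalgamate _ hR x' hx'
  have htq : S.g.hom.app (op X) t = q (op X) := separated (toTypeSheaf S.X₃) hR fun Y f hf => by
    change S.X₃.obj.map f.op (S.g.hom.app (op X) t) = S.X₃.obj.map f.op (q (op X))
    rw [hq f.op, ← (x f hf).2, show (x f hf).1 = S.X₂.obj.map f.op t from (ht f hf).symm]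
    exact (congrArg (fun g : S.X₂.obj.obj (op X) ⟶ S.X₃.obj.obj (op Y) => g t)
      (S.g.hom.naturality f.op)).symm
  refine ⟨⟨t, htq⟩, fun Y f hf => Subtype.ext (ht f hf), fun y hy => Subtype.ext ?_⟩
  exact hu y.1 fun Y f hf => congrArg Subtype.val (hy f hf)

/-- The torsor of lifts of a global section of the quotient. -/
noncomputable def liftsTorsor (hS : S.ShortExact) (hq : IsFam S.X₃ q) : Tors.Torsor S.X₁ where
  P := ⟨liftsPresheaf hq, isSheaf_lifts hq⟩
  vadd {U} g x := ⟨S.f.hom.app U g + x.1, by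
    rw [map_add, (app_exact hS U).2.1, x.2, zero_add]⟩
  zero_vadd {U} x := Subtype.ext (by
    change S.f.hom.app U 0 + x.1 = x.1
    rw [map_zero, zero_add])
  add_vadd {U} g h x := Subtype.ext (by
    change S.f.hom.app U (g + h) + x.1 = S.f.hom.app U g + (S.f.hom.app U h + x.1)
    rw [map_add, add_assoc])
  map_vadd {U V} f g x := Subtype.ext (by
    change S.X₂.obj.map f (S.f.hom.app U g + x.1) = S.f.hom.app V (S.X₁.obj.map f g) + _
    rw [map_add]
    congr 1
    exact (congrArg (fun h : S.X₁.obj.obj U ⟶ S.X₂.obj.obj V => h g) (S.f.hom.naturality f)).symm)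
  free_transitive {U} x y := by
    obtain ⟨g, hg⟩ := (app_exact hS U).2.2 (y.1 - x.1) (by rw [map_sub, x.2, y.2, sub_self])
    refine ⟨g, Subtype.ext (by
      change S.f.hom.app U g + x.1 = y.1
      rw [hg, sub_add_cancel]), fun h hh => (app_exact hS U).1 ?_⟩
    rw [hg, ← congrArg Subtype.val hh]
    exact (add_sub_cancel_right _ x.1).symm
  locally_nonempty U := by
    have := hS.epi_g
    have : Sheaf.IsLocallySurjective S.g := (Sheaf.isLocallySurjective_iff_epi' _ _).2 hS.epi_g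
    refine ⟨Presheaf.imageSieve S.g.hom (q (op U)), Presheaf.imageSieve_mem J _ _, ?_⟩
    rintro V f ⟨y, hy⟩
    exact ⟨⟨y, hy.trans (hq f.op)⟩⟩

/-- If all torsors have sections, global sections lift. -/
theorem exists_lift_of_hasSection (hS : S.ShortExact) (hq : IsFam S.X₃ q)
    (h : (liftsTorsor hS hq).HasSection) :
    ∃ x, IsFam S.X₂ x ∧ ∀ U, S.g.hom.app U (x U) = q U := by
  obtain ⟨p, hp⟩ := (hasSection_iff _).1 h
  exact ⟨fun U => (p U).1, fun U V f => congrArg Subtype.val (hp f), fun U => (p U).2⟩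

end Lifts

end Groth.TorsH1
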